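import Groth.Agent.GeomIrr.Basic
import Groth.Prelude.Def_Red

/-!
The fibres of `S' ×[S] S'` over `S` are connected when those of `S'` are geometrically connected.
-/

universe u

open CategoryTheory Limits AlgebraicGeometry

set_option linter.style.haveILetI false

noncomputable section

namespace Groth.Agent.CentralDescent

open FieldExtConn

theorem connectedSpace_self_pullback {Ω : Type u} [Field Ω] [IsAlgClosed Ω] {P : Scheme.{u}}
    (q : P ⟶ Spec (CommRingCat.of Ω)) [ConnectedSpace P] : ConnectedSpace (pullback q q : Scheme.{u}) := by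
  haveI : IsSepClosed Ω := inferInstance
  haveI : IsIso (ext Ω Ω) := by
    have : ext Ω Ω = 𝟙 _ :=
      (congrArg Spec.map (rfl : CommRingCat.ofHom (algebraMap Ω Ω) = 𝟙 (CommRingCat.of Ω))).trans (Spec.map_id _)
    rw [this]; infer_instance
  haveI : ConnectedSpace (pullback q (ext Ω Ω) : Scheme.{u}) :=
    (pullback.fst q (ext Ω Ω)).homeomorph.connectedSpace_iff.mpr ‹_›
  haveI := GeomIrr.geometricallyConnected_of_isSepClosed q Ω
  haveI : Subsingleton ↥(Spec (CommRingCat.of Ω)) := inferInstanceAs (Subsingleton (PrimeSpectrum Ω))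
  haveI : UniversallyOpen q := inferInstance
  infer_instance

/-- an open and closed subset of `S' ×[S] S'` which contains the diagonal is everything -/
theorem clopen_eq_univ {S S' : Scheme.{u}} (π : S' ⟶ S) [Surjective π]
    (hconn : ∀ s : S, ConnectedSpace ↥(pullback π (Red.geomPt s))) (U : Set ↥(pullback π π)) (hU : IsClopen U)
    (hdiag : ∀ s' : S', pullback.diagonal π s' ∈ U) : U = Set.univ := by
  refine Set.eq_univ_of_forall fun x => ?_
  let s := (pullback.fst π π ≫ π) x
  let g := Red.geomPt s
  let P := pullback π g
  haveI : ConnectedSpace P := hconn s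
  let q : P ⟶ _ := pullback.snd π g
  haveI : ConnectedSpace (pullback q q : Scheme.{u}) := connectedSpace_self_pullback q
  let r : pullback q q ⟶ pullback π π :=
    pullback.lift (pullback.fst q q ≫ pullback.fst π g) (pullback.snd q q ≫ pullback.fst π g) (by
      rw [Category.assoc, Category.assoc, pullback.condition, pullback.condition_assoc])
  let z₀ : ↥(Spec (CommRingCat.of (AlgebraicClosure (S.residueField s)))) :=
    IsLocalRing.closedPoint (AlgebraicClosure (S.residueField s))
  have hz₀ : g z₀ = s := by
    simp only [g, Scheme.Hom.comp_apply]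
    exact Scheme.fromSpecResidueField_apply _ _
  have hr : ∀ y : ↥(pullback π π), (pullback.fst π π ≫ π) y = s → ∃ z, r z = y := by
    intro y hy
    obtain ⟨w, hw, -⟩ := Scheme.Pullback.exists_preimage_pullback (f := pullback.fst π π ≫ π) (g := g) y z₀
      (hy.trans hz₀.symm)
    let pp := pullback.fst π π ≫ π
    let l₁ : pullback pp g ⟶ P := pullback.lift (pullback.fst pp g ≫ pullback.fst π π) (pullback.snd pp g) (by
      rw [Category.assoc, ← pullback.condition])
    let l₂ : pullback pp g ⟶ P := pullback.lift (pullback.fst pp g ≫ pullback.snd π π) (pullback.snd pp g) (by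
      rw [Category.assoc, ← pullback.condition (f := π) (g := π), ← pullback.condition])
    let l : pullback pp g ⟶ pullback q q := pullback.lift l₁ l₂ ((pullback.lift_snd _ _ _).trans (pullback.lift_snd _ _ _).symm)
    have hl : l ≫ r = pullback.fst pp g := by
      apply pullback.hom_ext
      · rw [Category.assoc, pullback.lift_fst, ← Category.assoc, pullback.lift_fst]
        exact pullback.lift_fst _ _ _
      · rw [Category.assoc, pullback.lift_snd, ← Category.assoc, pullback.lift_snd]
        exact pullback.lift_fst _ _ _
    exact ⟨l w, by rw [← Scheme.Hom.comp_apply, hl]; exact hw⟩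
  obtain ⟨s', hs'⟩ := π.surjective s
  obtain ⟨z, hz⟩ := hr (pullback.diagonal π s') (by
    rw [← Scheme.Hom.comp_apply, pullback.diagonal_fst_assoc]; exact hs')
  have huniv : r ⁻¹' U = Set.univ :=
    (hU.preimage r.continuous).eq_univ ⟨z, by show r z ∈ U; rw [hz]; exact hdiag s'⟩
  obtain ⟨z', hz'⟩ := hr x rfl
  rw [← hz']
  exact huniv.ge (Set.mem_univ z')

end Groth.Agent.CentralDescent
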