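import Groth.Agent.ConjInt.BaseChange
import Groth.Prelude.Def_SGA3x
import Mathlib.AlgebraicGeometry.Sites.Fpqc
import Mathlib.AlgebraicGeometry.Cover.QuasiCompact

/-!
fpqc coverings in the sense "every affine open is the image of a quasi-compact open": base change, descent of
morphisms, and base change of groups of multiplicative type and finite type.
-/

universe u

open CategoryTheory Limits MonoidalCategory CartesianMonoidalCategory MonObj GrpObj AlgebraicGeometry
open CoactBr Groth.Agent.DiagGrp Groth.Agent.DiagAction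

set_option backward.isDefEq.respectTransparency false
set_option linter.style.haveILetI false

noncomputable section

namespace Groth.Agent.CentralDescent

/-- every affine open is the image of a quasi-compact open -/
def IsFpqcCov {S S' : Scheme.{u}} (f : S' ⟶ S) : Prop :=
  ∀ V : S.Opens, IsAffineOpen V → ∃ W : S'.Opens, IsCompact (W : Set S') ∧ f.base '' (W : Set S') = (V : Set S)

theorem isFpqcCov_iff {S S' : Scheme.{u}} (f : S' ⟶ S) :
    IsFpqcCov f ↔ QuasiCompactCover (PreZeroHypercover.singleton.{0} f) := by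
  constructor
  · intro h
    refine ⟨fun {V} hV => ?_⟩
    obtain ⟨W, hW, e⟩ := h V hV
    haveI : Unique (PreZeroHypercover.singleton.{0} f).I₀ := inferInstanceAs (Unique PUnit)
    exact IsCompactOpenCovered.iff_of_unique.mpr ⟨W, hW, e⟩
  · intro h V hV
    haveI : Unique (PreZeroHypercover.singleton.{0} f).I₀ := inferInstanceAs (Unique PUnit)
    obtain ⟨W, hW, e⟩ := IsCompactOpenCovered.iff_of_unique.mp
      (IsAffineOpen.isCompactOpenCovered (PreZeroHypercover.singleton.{0} f) hV)
    exact ⟨W, hW, e⟩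

theorem isFpqcCov_fst {S S' T : Scheme.{u}} (f : S' ⟶ S) (hf : IsFpqcCov f) (t : T ⟶ S) :
    IsFpqcCov (pullback.fst t f) := by
  haveI := (isFpqcCov_iff f).mp hf
  exact (isFpqcCov_iff _).mpr (inferInstanceAs (QuasiCompactCover ((PreZeroHypercover.singleton.{0} f).pullback₁ t)))

theorem isFpqcCov_snd {S S' T : Scheme.{u}} (f : S' ⟶ S) (hf : IsFpqcCov f) (t : T ⟶ S) :
    IsFpqcCov (pullback.snd f t) := by
  intro V hV
  obtain ⟨W, hW, e⟩ := isFpqcCov_fst f hf t V hV
  let σ := (pullbackSymmetry f t).hom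
  refine ⟨σ ⁻¹ᵁ W, QuasiCompact.isCompact_preimage (f := σ) _ W.isOpen hW, ?_⟩
  have hs : σ ≫ pullback.fst t f = pullback.snd f t := pullbackSymmetry_hom_comp_fst f t
  rw [← hs, Scheme.Hom.comp_base, TopCat.coe_comp, Set.image_comp, ← e]
  congr 1
  exact Set.image_preimage_eq _ σ.homeomorph.surjective

/-- morphisms descend along flat surjective fpqc coverings -/
theorem effectiveEpi_of_cov {S S' : Scheme.{u}} (f : S' ⟶ S) [Flat f] [Surjective f] (hf : IsFpqcCov f) :
    EffectiveEpi f := by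
  haveI := (isFpqcCov_iff f).mp hf
  have hmem : Presieve.singleton f ∈ Scheme.fpqcPrecoverage S := by
    refine ⟨?_, ?_⟩
    · rw [← Presieve.ofArrows_pUnit.{0}]
      show (PreZeroHypercover.singleton.{0} f).presieve₀ ∈ Scheme.qcPrecoverage S
      rw [Scheme.presieve₀_mem_qcPrecoverage_iff]
      infer_instance
    · rw [Scheme.singleton_mem_precoverage_iff]
      exact ⟨f.surjective, ‹Flat f›⟩
  rw [← Sieve.effectiveEpimorphic_singleton, Presieve.EffectiveEpimorphic.iff_forall_isSheafFor_yoneda]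
  intro Z
  exact (GrothendieckTopology.Subcanonical.isSheaf_of_isRepresentable (J := Scheme.fpqcTopology) _).isSheafFor _
    (Precoverage.generate_mem_toGrothendieck hmem)

theorem isMultTypeFT_bc {S T : Scheme.{u}} (t : T ⟶ S) (H : Over S) [GrpObj H] (hH : SGA3x.IsMultTypeFT H) :
    SGA3x.IsMultTypeFT (Red.bc t H) := by
  obtain ⟨S', f, hflat, hsurj, hcov, hloc⟩ := hH
  haveI : Flat f := hflat
  haveI : Surjective f := hsurj
  refine ⟨pullback f t, pullback.snd f t, inferInstance, inferInstance, isFpqcCov_snd f hcov t, fun p => ?_⟩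
  obtain ⟨U, hpU, M, _, hM, ⟨E⟩⟩ := hloc (pullback.fst f t p)
  let U' := pullback.fst f t ⁻¹ᵁ U
  let j : (U' : Scheme.{u}) ⟶ U := IsOpenImmersion.lift U.ι (U'.ι ≫ pullback.fst f t) (by
    rintro _ ⟨y, rfl⟩; exact (Scheme.Opens.range_ι U).ge y.2)
  obtain ⟨e1⟩ := bc_comp_grp (U'.ι ≫ pullback.snd f t) t H
  obtain ⟨e2⟩ := bc_congr_grp (h := (U'.ι ≫ pullback.snd f t) ≫ t) (h' := j ≫ U.ι ≫ f)
    (by rw [IsOpenImmersion.lift_fac_assoc, Category.assoc, Category.assoc, pullback.condition]) H
  obtain ⟨e3⟩ := bc_comp_grp j (U.ι ≫ f) H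
  obtain ⟨e4⟩ := ConjInt.bc_DS_grp j M
  exact ⟨U', hpU, M, inferInstance, hM,
    ⟨e1.symm ≪≫ e2 ≪≫ e3 ≪≫ (Over.pullback j).mapGrp.mapIso E ≪≫ e4⟩⟩

end Groth.Agent.CentralDescent
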