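import Groth.Agent.CentralDescent.Cover

/-!
Values of a homomorphism defined over a covering, and the two homomorphisms it defines over a scheme with two maps
to the covering.
-/

universe u

open CategoryTheory Limits MonoidalCategory CartesianMonoidalCategory MonObj GrpObj AlgebraicGeometry
open CoactBr Groth.Agent.DiagGrp Groth.Agent.DiagAction

set_option backward.isDefEq.respectTransparency false
set_option linter.style.haveILetI false

noncomputable section

namespace Groth.Agent.CentralDescent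

theorem isMonHom_of_mul {C : Type*} [Category C] [CartesianMonoidalCategory C] {H G : C} [GrpObj H] [GrpObj G]
    (φ : H ⟶ G) (e : ∀ (X : C) (a b : X ⟶ H), (a * b) ≫ φ = (a ≫ φ) * (b ≫ φ)) : IsMonHom φ := by
  refine ⟨?_, ?_⟩
  · have h := e _ (1 : 𝟙_ C ⟶ H) 1
    rw [_root_.mul_one] at h
    have h1 := left_eq_mul.mp h
    rwa [Hom.one_def, Hom.one_def, toUnit_unique (toUnit _) (𝟙 _), Category.id_comp, Category.id_comp] at h1
  · have := e (H ⊗ H) (fst H H) (snd H H)
    rw [Hom.mul_def, lift_fst_snd, Category.id_comp] at this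
    rw [this, Hom.mul_def, lift_fst_comp_snd_comp]

theorem downP_left {S S' : Scheme.{u}} (v : S' ⟶ S) {Y : Over S} {Z : Over S'} (x : Z ⟶ Red.bc v Y) :
    (downP v x).left = x.left ≫ pullback.fst Y.hom v := by
  simp [downP, Over.mapPullbackAdj]

theorem upP_left_fst {S S' : Scheme.{u}} (v : S' ⟶ S) {Y : Over S} {Z : Over S'} (x : (Over.map v).obj Z ⟶ Y) :
    (upP v x).left ≫ pullback.fst Y.hom v = x.left := by
  rw [← downP_left, downP_upP]

variable {S S' : Scheme.{u}} {π : S' ⟶ S} {H G : Over S} (u' : Red.bc π H ⟶ Red.bc π G)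

/-- the value at a point above a point of the covering -/
def ev {Y : Over S} (a : Y ⟶ Over.mk π) (h : Y ⟶ H) : Y ⟶ G :=
  Over.homMk (pullback.lift h.left a.left ((Over.w h).trans (Over.w a).symm) ≫ u'.left ≫ pullback.fst G.hom π) (by
    show (pullback.lift h.left a.left _ ≫ u'.left ≫ pullback.fst G.hom π) ≫ G.hom = Y.hom
    rw [Category.assoc, Category.assoc, pullback.condition, ← Category.assoc u'.left]
    erw [Over.w u']
    rw [← Category.assoc]
    erw [pullback.lift_snd]
    exact Over.w a)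

theorem comp_ev {Y Y' : Over S} (k : Y' ⟶ Y) (a : Y ⟶ Over.mk π) (h : Y ⟶ H) :
    k ≫ ev u' a h = ev u' (k ≫ a) (k ≫ h) := by
  apply Over.OverMorphism.ext
  show k.left ≫ pullback.lift h.left a.left _ ≫ u'.left ≫ pullback.fst G.hom π = _ ≫ u'.left ≫ pullback.fst G.hom π
  rw [← Category.assoc]
  congr 1
  apply pullback.hom_ext <;> simp

theorem ev_eq {Y : Over S} (a : Y ⟶ Over.mk π) (h : Y ⟶ H) :
    ev u' a h = (Over.isoMk (Iso.refl Y.left) ((Category.id_comp _).trans (Over.w a).symm) :
        (Over.map π).obj (Over.mk a.left) ≅ Y).inv ≫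
      downP π (upP π ((Over.isoMk (Iso.refl Y.left) ((Category.id_comp _).trans (Over.w a).symm) :
        (Over.map π).obj (Over.mk a.left) ≅ Y).hom ≫ h) ≫ u') := by
  apply Over.OverMorphism.ext
  simp only [Over.comp_left, downP_left, Over.isoMk_inv_left, Iso.refl_inv, Category.assoc]
  erw [Category.id_comp]
  show _ ≫ u'.left ≫ pullback.fst G.hom π = _
  congr 1
  apply pullback.hom_ext
  · rw [pullback.lift_fst]
    erw [upP_left_fst]
    simp
  · rw [pullback.lift_snd]
    exact (Over.w (upP π ((Over.isoMk (Iso.refl Y.left) ((Category.id_comp _).trans (Over.w a).symm) :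
        (Over.map π).obj (Over.mk a.left) ≅ Y).hom ≫ h))).symm

variable [GrpObj H] [GrpObj G] [IsMonHom u']

theorem ev_mul {Y : Over S} (a : Y ⟶ Over.mk π) (h h' : Y ⟶ H) :
    ev u' a (h * h') = ev u' a h * ev u' a h' := by
  simp only [ev_eq, MonObj.comp_mul, upP_mul, mul_comp', downP_mul]

theorem ev_comm (hc : ∀ (X : Over S') (g : X ⟶ Red.bc π G) (h : X ⟶ Red.bc π H), g * (h ≫ u') = (h ≫ u') * g)
    {Y : Over S} (a : Y ⟶ Over.mk π) (h : Y ⟶ H) (g : Y ⟶ G) : g * ev u' a h = ev u' a h * g := by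
  rw [ev_eq]
  let i : (Over.map π).obj (Over.mk a.left) ≅ Y :=
    Over.isoMk (Iso.refl Y.left) ((Category.id_comp _).trans (Over.w a).symm)
  have e := congrArg (downP π) (hc (Over.mk a.left) (upP π (i.hom ≫ g)) (upP π (i.hom ≫ h)))
  rw [downP_mul, downP_mul, downP_upP] at e
  have e2 := congrArg (fun x => i.inv ≫ x) e
  simp only [MonObj.comp_mul, Iso.inv_hom_id_assoc] at e2
  exact e2

variable {T : Scheme.{u}} (p : T ⟶ S) (q : T ⟶ S') (hq : q ≫ π = p)

/-- the homomorphism above `p` defined by a map to the covering -/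
def resHom : Red.bc p H ⟶ Red.bc p G :=
  upP p (ev u' (Over.homMk (pullback.snd H.hom p ≫ q) (by
    show (pullback.snd H.hom p ≫ q) ≫ π = pullback.snd H.hom p ≫ p
    rw [Category.assoc, hq])) (downP p (𝟙 (Red.bc p H))))

theorem comp_resHom {Z : Over T} (z : Z ⟶ Red.bc p H) :
    z ≫ resHom u' p q hq = upP p (ev u' (Over.homMk (Z.hom ≫ q) (by
      show (Z.hom ≫ q) ≫ π = Z.hom ≫ p
      rw [Category.assoc, hq])) (downP p z)) := by
  have hn : ∀ (x : (Over.map p).obj (Red.bc p H) ⟶ G), z ≫ upP p x = upP p ((Over.map p).map z ≫ x) :=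
    fun x => ((Over.mapPullbackAdj p).homEquiv_naturality_left z x).symm
  rw [resHom, hn, comp_ev, ← downP_comp, Category.comp_id]
  congr 2
  apply Over.OverMorphism.ext
  show z.left ≫ pullback.snd H.hom p ≫ q = Z.hom ≫ q
  rw [← Over.w z, Category.assoc]
  rfl

instance isMonHom_resHom : IsMonHom (resHom u' p q hq : Red.bc p H ⟶ Red.bc p G) :=
  isMonHom_of_mul _ fun X a b => by
    simp only [comp_resHom, downP_mul, ev_mul, upP_mul]

theorem resHom_comm (hc : ∀ (X : Over S') (g : X ⟶ Red.bc π G) (h : X ⟶ Red.bc π H), g * (h ≫ u') = (h ≫ u') * g)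
    (X : Over T) (g : X ⟶ Red.bc p G) (h : X ⟶ Red.bc p H) :
    g * (h ≫ resHom u' p q hq) = (h ≫ resHom u' p q hq) * g := by
  rw [comp_resHom]
  conv_lhs => rw [← upP_downP p g, ← upP_mul, ev_comm u' hc, upP_mul, upP_downP]

end Groth.Agent.CentralDescent
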